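import Mathlib
import Cfsg.Prelude.Def_Spor_B
import Cfsg.Prelude.Def_Spor_M

/-!
Owner: helper2. The presented Baby Monster and Monster have no image of 2-rank at most two: if a finite
non-abelian group is isomorphic to one of them, then 8 divides its order (used for S1794).
-/

set_option autoImplicit false
set_option linter.style.haveILetI false

namespace CfsgLib.ScUse

open Subgroup

/-- Three commuting elements of square one in a group of order not divisible by 8 satisfy a relation. -/
theorem three_invol_rel {K : Type*} [Group K] [Finite K] (h8 : ¬ 8 ∣ Nat.card K) {x y z : K}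
    (hx : x * x = 1) (hy : y * y = 1) (hz : z * z = 1) (hxy : x * y = y * x) (hxz : x * z = z * x)
    (hyz : y * z = z * y) :
    x = 1 ∨ y = 1 ∨ x * y = 1 ∨ z = 1 ∨ x * z = 1 ∨ y * z = 1 ∨ x * y * z = 1 := by
  classical
  haveI : Fact (Nat.Prime 2) := ⟨Nat.prime_two⟩
  by_contra hno
  simp only [not_or] at hno
  obtain ⟨h1, h2, h3, h4, h5, h6, h7⟩ := hno
  let A : Subgroup K := closure {x, y, z}
  have hcomm : ∀ a ∈ A, ∀ b ∈ A, a * b = b * a := by
    have h1 : ∀ a ∈ A, ∀ c ∈ ({x, y, z} : Set K), a * c = c * a := by
      intro a ha c hc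
      have : A ≤ centralizer ({c} : Set K) := by
        refine closure_le _ |>.2 fun d hd => mem_centralizer_singleton_iff.2 ?_
        simp only [Set.mem_insert_iff, Set.mem_singleton_iff] at hc hd
        rcases hc with rfl | rfl | rfl <;> rcases hd with rfl | rfl | rfl <;>
          first | rfl | exact hxy | exact hxy.symm | exact hxz | exact hxz.symm | exact hyz | exact hyz.symm
      exact mem_centralizer_singleton_iff.1 (this ha)
    intro a ha b hb
    have : A ≤ centralizer ({a} : Set K) :=
      closure_le _ |>.2 fun d hd => mem_centralizer_singleton_iff.2 (h1 a ha d hd).symm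
    exact (mem_centralizer_singleton_iff.1 (this hb)).symm
  have hsq : ∀ a ∈ A, a * a = 1 := by
    intro a ha
    refine closure_induction ?_ (one_mul 1) ?_ ?_ ha
    · intro d hd
      simp only [Set.mem_insert_iff, Set.mem_singleton_iff] at hd
      rcases hd with rfl | rfl | rfl <;> assumption
    · intro b c hb hc eb ec
      calc b * c * (b * c) = b * (c * b) * c := by group
        _ = b * (b * c) * c := by rw [hcomm c hc b hb]
        _ = (b * b) * (c * c) := by group
        _ = 1 := by rw [eb, ec, one_mul]
    · intro b _ eb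
      rw [← mul_inv_rev, eb, inv_one]
  have hA : IsPGroup 2 A := fun a => ⟨1, Subtype.ext (by simpa [pow_two] using hsq _ a.2)⟩
  obtain ⟨k, hk⟩ := IsPGroup.iff_card.1 hA
  have hk2 : k ≤ 2 := by
    by_contra hk3
    exact h8 ((pow_dvd_pow 2 (show 3 ≤ k by omega)).trans (hk ▸ A.card_subgroup_dvd_card))
  have hxA : x ∈ A := subset_closure (by simp)
  have hyA : y ∈ A := subset_closure (by simp)
  have hzA : z ∈ A := subset_closure (by simp)
  have hle : (({1, x, y, x * y, z} : Finset K) : Set K) ⊆ (A : Set K) := by
    intro d hd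
    simp only [Finset.coe_insert, Finset.coe_singleton, Set.mem_insert_iff, Set.mem_singleton_iff] at hd
    rcases hd with rfl | rfl | rfl | rfl | rfl
    exacts [one_mem A, hxA, hyA, mul_mem hxA hyA, hzA]
  have hinvx : x⁻¹ = x := inv_eq_of_mul_eq_one_right hx
  have hinvy : y⁻¹ = y := inv_eq_of_mul_eq_one_right hy
  have e1 : x ≠ y := fun e => h3 (e ▸ hy)
  have e2 : x ≠ x * y := fun e => h2 (mul_eq_left.1 e.symm)
  have e3 : y ≠ x * y := fun e => h1 (mul_eq_right.1 e.symm)
  have e4 : x ≠ z := fun e => h5 (e ▸ hz)
  have e5 : y ≠ z := fun e => h6 (e ▸ hz)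
  have e6 : x * y ≠ z := fun e => h7 (by rw [e, hz])
  have hcard : ({1, x, y, x * y, z} : Finset K).card = 5 := by
    rw [Finset.card_insert_of_notMem, Finset.card_insert_of_notMem, Finset.card_insert_of_notMem,
      Finset.card_pair e6]
    · simp [e3, e5]
    · simp [e1, e2, e4]
    · simp [Ne.symm h1, Ne.symm h2, Ne.symm h3, Ne.symm h4]
  have h5' := Set.ncard_le_ncard hle (Set.toFinite _)
  rw [Set.ncard_coe_finset, hcard, ← Nat.card_coe_set_eq] at h5'
  have : Nat.card A ≤ 4 := hk ▸ (Nat.pow_le_pow_right (by norm_num) hk2)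
  exact absurd (h5'.trans this) (by norm_num)

/-- In a group with `x² = z² = (xz)³ = 1` commutation means equality. -/
theorem braid_eq {H : Type*} [Group H] {x z : H} (hx : x * x = 1) (hz : z * z = 1) (h3 : (x * z) ^ 3 = 1)
    (hc : x * z = z * x) : x = z := by
  have h2 : (x * z) ^ 2 = 1 := by
    rw [pow_two]
    calc x * z * (x * z) = x * z * (z * x) := by rw [← hc]
      _ = x * (z * z) * x := by group
      _ = 1 := by rw [hz, mul_one, hx]
  have h1 : x * z = 1 := by rw [pow_succ, h2, one_mul] at h3; exact h3
  calc x = x * (z * z) := by rw [hz, mul_one]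
    _ = z := by rw [← mul_assoc, h1, one_mul]

theorem comm_of_sq {H : Type*} [Group H] {x z : H} (hx : x * x = 1) (hz : z * z = 1) (h2 : (x * z) ^ 2 = 1) :
    x * z = z * x := by
  rw [pow_two] at h2
  calc x * z = (x * z)⁻¹ := (inv_eq_of_mul_eq_one_right h2).symm
    _ = z * x := by rw [mul_inv_rev, inv_eq_of_mul_eq_one_right hx, inv_eq_of_mul_eq_one_right hz]

section Cox

variable {α : Type} [DecidableEq α] {edges : List (α × ℕ × α)} {extra : List (FreeGroup α)}

local notation "P" => Cfsg.Spor.CoxPresented α edges extra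

theorem cox_rel (x y : α) (hx : x ∈ Cfsg.Spor.coxNodes edges) (hy : y ∈ Cfsg.Spor.coxNodes edges) :
    ((PresentedGroup.of x : P) * PresentedGroup.of y) ^ Cfsg.Spor.coxLabel edges x y = 1 := by
  have h : PresentedGroup.mk (Cfsg.Spor.coxRelators edges ∪ {r | r ∈ extra})
      ((FreeGroup.of x * FreeGroup.of y) ^ Cfsg.Spor.coxLabel edges x y) = 1 :=
    PresentedGroup.one_of_mem (Or.inl ⟨x, hx, y, hy, rfl⟩)
  rwa [map_pow, map_mul] at h

theorem cox_sq (x : α) (hx : x ∈ Cfsg.Spor.coxNodes edges) :
    (PresentedGroup.of x : P) * PresentedGroup.of x = 1 := by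
  have h := cox_rel (extra := extra) x x hx hx
  rwa [Cfsg.Spor.coxLabel, if_pos rfl, pow_one] at h

theorem cox_comm {x y : α} (hx : x ∈ Cfsg.Spor.coxNodes edges) (hy : y ∈ Cfsg.Spor.coxNodes edges)
    (h : Cfsg.Spor.coxLabel edges x y = 2) :
    (PresentedGroup.of x : P) * PresentedGroup.of y = PresentedGroup.of y * PresentedGroup.of x :=
  comm_of_sq (cox_sq x hx) (cox_sq y hy) (h ▸ cox_rel x y hx hy)

theorem cox_edge {x y : α} (hx : x ∈ Cfsg.Spor.coxNodes edges) (hy : y ∈ Cfsg.Spor.coxNodes edges)
    (h : Cfsg.Spor.coxLabel edges x y = 3)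
    (hc : (PresentedGroup.of x : P) * PresentedGroup.of y = PresentedGroup.of y * PresentedGroup.of x) :
    (PresentedGroup.of x : P) = PresentedGroup.of y :=
  braid_eq (cox_sq x hx) (cox_sq y hy) (h ▸ cox_rel x y hx hy) hc

/-- An equality along an edge spreads to a neighbouring edge. -/
theorem cox_spread {x z w : α} (hx : x ∈ Cfsg.Spor.coxNodes edges) (hz : z ∈ Cfsg.Spor.coxNodes edges)
    (hw : w ∈ Cfsg.Spor.coxNodes edges) (h3 : Cfsg.Spor.coxLabel edges w x = 3)
    (h2 : Cfsg.Spor.coxLabel edges w z = 2) (e : (PresentedGroup.of x : P) = PresentedGroup.of z) :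
    (PresentedGroup.of w : P) = PresentedGroup.of x :=
  cox_edge hw hx h3 (e ▸ cox_comm hw hz h2)

theorem cox_comm_all {x₀ : α} (h : ∀ x : α, (PresentedGroup.of x : P) = PresentedGroup.of x₀) (a b : P) :
    a * b = b * a := by
  have hle : (⊤ : Subgroup P) ≤ zpowers (PresentedGroup.of x₀ : P) := by
    rw [← PresentedGroup.closure_range_of, closure_le]
    rintro _ ⟨x, rfl⟩
    rw [h x]
    exact mem_zpowers _
  exact Subgroup.mem_zpowers_iff.1 (hle (mem_top a)) |>.elim fun i hi =>
    Subgroup.mem_zpowers_iff.1 (hle (mem_top b)) |>.elim fun j hj => by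
      rw [← hi, ← hj, ← zpow_add, ← zpow_add, add_comm]

end Cox

section Baby

open Cfsg.Spor

local notation "g" => (PresentedGroup.of : BabyMonster.Gen → BabyMonster)

theorem baby_nodes : ∀ x : BabyMonster.Gen, x ∈ coxNodes BabyMonster.edges := by
  intro x; cases x <;> decide

theorem baby_collapse {h1 : g .t1 = g .t2 ∨ g .t4 = g .t3 ∨ g .t8 = g .t7} :
    ∀ x, g x = g .t5 := by
  have step : ∀ {x z w : BabyMonster.Gen}, coxLabel BabyMonster.edges w x = 3 →
      coxLabel BabyMonster.edges w z = 2 → g x = g z → g w = g x := by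
    intro x z w h3 h2 e
    exact cox_spread (baby_nodes _) (baby_nodes _) (baby_nodes _) h3 h2 e
  have h45 : g .t4 = g .t5 := by
    rcases h1 with h | h | h
    · exact (step (w := .t5) (by decide) (by decide)
        (step (w := .t4) (by decide) (by decide) (step (w := .t3) (by decide) (by decide) h.symm))).symm
    · exact (step (w := .t5) (by decide) (by decide) h).symm
    · exact step (w := .t4) (by decide) (by decide)
        (step (w := .t5) (by decide) (by decide) (step (w := .t6) (by decide) (by decide) h.symm))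
  have a3 : g .t3 = g .t4 := step (by decide) (by decide) h45
  have a2 : g .t2 = g .t3 := step (by decide) (by decide) a3
  have a1 : g .t1 = g .t2 := step (by decide) (by decide) a2
  have a6 : g .t6 = g .t5 := step (by decide) (by decide) h45.symm
  have a7 : g .t7 = g .t6 := step (by decide) (by decide) a6
  have a8 : g .t8 = g .t7 := step (by decide) (by decide) a7
  have a9 : g .t9 = g .t5 := step (by decide) (by decide) h45.symm
  have a10 : g .t10 = g .t9 := step (by decide) (by decide) a9
  have a11 : g .t11 = g .t10 := step (by decide) (by decide) a10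
  intro x
  cases x
  · exact a1.trans (a2.trans (a3.trans h45))
  · exact a2.trans (a3.trans h45)
  · exact a3.trans h45
  · exact h45
  · rfl
  · exact a6
  · exact a7.trans a6
  · exact a8.trans (a7.trans a6)
  · exact a9
  · exact a10.trans a9
  · exact a11.trans (a10.trans a9)

theorem eight_dvd_of_isoB {K : Type*} [Group K] [Finite K] (hK : ¬ IsMulCommutative K) (h : IsoB K) :
    8 ∣ Nat.card K := by
  obtain ⟨e⟩ := h
  haveI : Finite BabyMonster := Finite.of_equiv K e.toEquiv
  rw [Nat.card_congr e.toEquiv]
  by_contra h8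
  have hm := baby_nodes
  have C : ∀ {x y}, coxLabel BabyMonster.edges x y = 2 → g x * g y = g y * g x :=
    fun h => cox_comm (hm _) (hm _) h
  have c14 := C (x := .t1) (y := .t4) (by decide)
  have c18 := C (x := .t1) (y := .t8) (by decide)
  have c48 := C (x := .t4) (y := .t8) (by decide)
  have s : ∀ x, g x * g x = 1 := fun x => cox_sq x (hm x)
  have key : g .t1 = g .t2 ∨ g .t4 = g .t3 ∨ g .t8 = g .t7 := by
    have E : ∀ {x z}, coxLabel BabyMonster.edges x z = 3 → g z * g x = g x * g z → g x = g z :=
      fun h hc => cox_edge (hm _) (hm _) h hc.symm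
    have d24 := C (x := .t2) (y := .t4) (by decide)
    have d28 := C (x := .t2) (y := .t8) (by decide)
    have d38 := C (x := .t3) (y := .t8) (by decide)
    rcases three_invol_rel h8 (s _) (s _) (s _) c14 c18 c48 with h | h | h | h | h | h | h
    · exact .inl (E (by decide) (by rw [h, mul_one, one_mul]))
    · exact .inr (.inl (E (by decide) (by rw [h, mul_one, one_mul])))
    · refine .inl (E (by decide) ?_)
      rw [show g .t1 = g .t4 by rw [eq_inv_of_mul_eq_one_left h, inv_eq_of_mul_eq_one_right (s _)]]
      exact d24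
    · exact .inr (.inr (E (by decide) (by rw [h, mul_one, one_mul])))
    · refine .inl (E (by decide) ?_)
      rw [show g .t1 = g .t8 by rw [eq_inv_of_mul_eq_one_left h, inv_eq_of_mul_eq_one_right (s _)]]
      exact d28
    · refine .inr (.inl (E (by decide) ?_))
      rw [show g .t4 = g .t8 by rw [eq_inv_of_mul_eq_one_left h, inv_eq_of_mul_eq_one_right (s _)]]
      exact d38
    · refine .inl (E (by decide) ?_)
      rw [show g .t1 = g .t8 * g .t4 by
        rw [mul_assoc] at h
        rw [eq_inv_of_mul_eq_one_left h, mul_inv_rev, inv_eq_of_mul_eq_one_right (s _),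
          inv_eq_of_mul_eq_one_right (s _)]]
      rw [← mul_assoc, d28, mul_assoc, d24, mul_assoc]
  exact hK ⟨⟨fun a b => e.injective (by rw [map_mul, map_mul]; exact cox_comm_all (baby_collapse (h1 := key)) _ _)⟩⟩

end Baby

section Monst

open Cfsg.Spor

local notation "g" => (PresentedGroup.of : Bimonster.Gen → Bimonster)

theorem bimonster_nodes : ∀ x : Bimonster.Gen, x ∈ coxNodes Bimonster.edges := by
  intro x; cases x <;> decide

theorem bimonster_collapse
    {h1 : g .c1 = g .b1 ∨ g .c2 = g .b2 ∨ g .c3 = g .b3 ∨ g .e1 = g .f1} : ∀ x, g x = g .a := by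
  have hm := bimonster_nodes
  have step : ∀ {x z w : Bimonster.Gen}, coxLabel Bimonster.edges w x = 3 →
      coxLabel Bimonster.edges w z = 2 → g x = g z → g w = g x :=
    fun h3 h2 e => cox_spread (hm _) (hm _) (hm _) h3 h2 e
  have hab : g .b1 = g .a := by
    rcases h1 with h | h | h | h
    · exact (step (w := .a) (by decide) (by decide) h.symm).symm
    · have := step (w := .a) (by decide) (by decide) h.symm
      exact step (w := .b1) (by decide) (by decide) this
    · have := step (w := .a) (by decide) (by decide) h.symm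
      exact step (w := .b1) (by decide) (by decide) this
    · have h1 := step (w := .d1) (by decide) (by decide) h
      have h2 := step (w := .c1) (by decide) (by decide) h1
      have h3 := step (w := .b1) (by decide) (by decide) h2
      exact (step (w := .a) (by decide) (by decide) h3).symm
  have b2 : g .b2 = g .a := step (by decide) (by decide) hab.symm
  have b3 : g .b3 = g .a := step (by decide) (by decide) hab.symm
  have c1 : g .c1 = g .b1 := step (by decide) (by decide) hab
  have c2 : g .c2 = g .b2 := step (by decide) (by decide) b2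
  have c3 : g .c3 = g .b3 := step (by decide) (by decide) b3
  have d1 : g .d1 = g .c1 := step (by decide) (by decide) c1
  have d2 : g .d2 = g .c2 := step (by decide) (by decide) c2
  have d3 : g .d3 = g .c3 := step (by decide) (by decide) c3
  have e1 : g .e1 = g .d1 := step (by decide) (by decide) d1
  have e2 : g .e2 = g .d2 := step (by decide) (by decide) d2
  have e3 : g .e3 = g .d3 := step (by decide) (by decide) d3
  have f1 : g .f1 = g .e1 := step (by decide) (by decide) e1
  have f2 : g .f2 = g .e2 := step (by decide) (by decide) e2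
  have f3 : g .f3 = g .e3 := step (by decide) (by decide) e3
  intro x
  cases x
  · rfl
  · exact hab
  · exact c1.trans hab
  · exact d1.trans (c1.trans hab)
  · exact e1.trans (d1.trans (c1.trans hab))
  · exact f1.trans (e1.trans (d1.trans (c1.trans hab)))
  · exact b2
  · exact c2.trans b2
  · exact d2.trans (c2.trans b2)
  · exact e2.trans (d2.trans (c2.trans b2))
  · exact f2.trans (e2.trans (d2.trans (c2.trans b2)))
  · exact b3
  · exact c3.trans b3
  · exact d3.trans (c3.trans b3)
  · exact e3.trans (d3.trans (c3.trans b3))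
  · exact f3.trans (e3.trans (d3.trans (c3.trans b3)))

theorem eight_dvd_of_isoM {K : Type*} [Group K] [Finite K] (hK : ¬ IsMulCommutative K) (h : IsoM K) :
    8 ∣ Nat.card K := by
  obtain ⟨e⟩ := h
  haveI : Finite Monster := Finite.of_equiv K e.toEquiv
  rw [Nat.card_congr e.toEquiv]
  by_contra h8
  have hm := bimonster_nodes
  have C : ∀ {x y}, coxLabel Bimonster.edges x y = 2 → g x * g y = g y * g x :=
    fun h => cox_comm (hm _) (hm _) h
  have s : ∀ x, g x * g x = 1 := fun x => cox_sq x (hm x)
  have hab : ∀ {x y}, coxLabel Bimonster.edges x y = 3 →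
      Abelianization.of (g x) = Abelianization.of (g y) := by
    intro x y h
    refine braid_eq ?_ ?_ ?_ (mul_comm _ _)
    · rw [← map_mul, s, map_one]
    · rw [← map_mul, s, map_one]
    · rw [← map_mul, ← map_pow, ← map_one (Abelianization.of : Bimonster →* _)]
      exact congrArg _ (h ▸ cox_rel x y (hm x) (hm y))
  have ha : ∀ x ∈ [Bimonster.Gen.c1, .c2, .c3, .e1],
      Abelianization.of (g x) = Abelianization.of (g .a) ∧ coxLabel Bimonster.edges .a x = 2 := by
    have h1 : Abelianization.of (g .b1) = Abelianization.of (g .a) := hab (by decide)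
    have h2 : Abelianization.of (g .c1) = Abelianization.of (g .b1) := hab (by decide)
    have h3 : Abelianization.of (g .d1) = Abelianization.of (g .c1) := hab (by decide)
    have h4 : Abelianization.of (g .e1) = Abelianization.of (g .d1) := hab (by decide)
    intro x hx
    simp only [List.mem_cons, List.not_mem_nil, or_false] at hx
    rcases hx with rfl | rfl | rfl | rfl
    · exact ⟨h2.trans h1, by decide⟩
    · exact ⟨(hab (x := .c2) (y := .b2) (by decide)).trans (hab (by decide)), by decide⟩
    · exact ⟨(hab (x := .c3) (y := .b3) (by decide)).trans (hab (by decide)), by decide⟩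
    · exact ⟨h4.trans (h3.trans (h2.trans h1)), by decide⟩
  have hmem : ∀ x ∈ [Bimonster.Gen.c1, .c2, .c3, .e1], ∀ y ∈ [Bimonster.Gen.c1, .c2, .c3, .e1],
      g x * g y ∈ Subgroup.centralizer {(PresentedGroup.of Bimonster.Gen.a : Bimonster)} ⊓ commutator Bimonster := by
    intro x hx y hy
    obtain ⟨ax, lx⟩ := ha x hx
    obtain ⟨ay, ly⟩ := ha y hy
    refine ⟨mul_mem (mem_centralizer_singleton_iff.2 (C lx).symm) (mem_centralizer_singleton_iff.2 (C ly).symm), ?_⟩
    show g x * g y ∈ commutator Bimonster
    rw [← Abelianization.ker_of, MonoidHom.mem_ker, map_mul, ax, ay, ← map_mul, s, map_one]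
  let m : Bimonster.Gen → Bimonster.Gen → Bimonster := fun x y => g x * g y
  let X : Monster := ⟨m .c1 .c2, hmem _ (by simp) _ (by simp)⟩
  let Y : Monster := ⟨m .c1 .c3, hmem _ (by simp) _ (by simp)⟩
  let Z : Monster := ⟨m .c1 .e1, hmem _ (by simp) _ (by simp)⟩
  have c12 := C (x := .c1) (y := .c2) (by decide)
  have c13 := C (x := .c1) (y := .c3) (by decide)
  have c14 := C (x := .c1) (y := .e1) (by decide)
  have c23 := C (x := .c2) (y := .c3) (by decide)
  have c24 := C (x := .c2) (y := .e1) (by decide)
  have c34 := C (x := .c3) (y := .e1) (by decide)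
  have sq : ∀ {p q : Bimonster}, p * p = 1 → q * q = 1 → p * q = q * p → p * q * (p * q) = 1 := by
    intro p q hp hq hc
    calc p * q * (p * q) = p * q * (q * p) := by rw [← hc]
      _ = p * (q * q) * p := by group
      _ = 1 := by rw [hq, mul_one, hp]
  have cp : ∀ {p q r : Bimonster}, p * p = 1 → p * q = q * p → p * r = r * p → q * r = r * q →
      p * q * (p * r) = p * r * (p * q) := by
    intro p q r hp hpq hpr hqr
    calc p * q * (p * r) = p * (q * p) * r := by group
      _ = p * p * (q * r) := by rw [← hpq]; group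
      _ = p * p * (r * q) := by rw [hqr]
      _ = p * (p * r) * q := by group
      _ = p * (r * p) * q := by rw [hpr]
      _ = p * r * (p * q) := by group
  have key : g .c1 = g .b1 ∨ g .c2 = g .b2 ∨ g .c3 = g .b3 ∨ g .e1 = g .f1 := by
    have E : ∀ {x z}, coxLabel Bimonster.edges x z = 3 → g z * g x = g x * g z → g x = g z :=
      fun h hc => cox_edge (hm _) (hm _) h hc.symm
    have d12 := C (x := .b1) (y := .c2) (by decide)
    have d13 := C (x := .b1) (y := .c3) (by decide)
    have d14 := C (x := .b1) (y := .e1) (by decide)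
    have d23 := C (x := .b2) (y := .c3) (by decide)
    have d24 := C (x := .b2) (y := .e1) (by decide)
    have d34 := C (x := .b3) (y := .e1) (by decide)
    have eqof : ∀ {p q : Bimonster}, q * q = 1 → p * q = 1 → p = q := fun hq h =>
      (eq_inv_of_mul_eq_one_left h).trans (inv_eq_of_mul_eq_one_right hq)
    have r := three_invol_rel h8 (x := X) (y := Y) (z := Z)
      (Subtype.ext (sq (s _) (s _) c12)) (Subtype.ext (sq (s _) (s _) c13)) (Subtype.ext (sq (s _) (s _) c14))
      (Subtype.ext (cp (s _) c12 c13 c23)) (Subtype.ext (cp (s _) c12 c14 c24))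
      (Subtype.ext (cp (s _) c13 c14 c34))
    have red : ∀ p q r : Bimonster, p * p = 1 → p * q = q * p → (p * q * (p * r) = 1 → q * r = 1) := by
      intro p q r hp hpq h
      calc q * r = p * p * (q * r) := by rw [hp, one_mul]
        _ = p * (p * q) * r := by group
        _ = p * (q * p) * r := by rw [hpq]
        _ = p * q * (p * r) := by group
        _ = 1 := h
    simp only [Subtype.ext_iff, Subgroup.coe_mul, Subgroup.coe_one, X, Y, Z, m] at r
    rcases r with h | h | h | h | h | h | h
    · exact .inl (E (by decide) (by rw [eqof (s _) h]; exact d12))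
    · exact .inl (E (by decide) (by rw [eqof (s _) h]; exact d13))
    · exact .inr (.inl (E (by decide) (by rw [eqof (s _) (red _ _ _ (s _) c12 h)]; exact d23)))
    · exact .inl (E (by decide) (by rw [eqof (s _) h]; exact d14))
    · exact .inr (.inl (E (by decide) (by rw [eqof (s _) (red _ _ _ (s _) c12 h)]; exact d24)))
    · exact .inr (.inr (.inl (E (by decide) (by rw [eqof (s _) (red _ _ _ (s _) c13 h)]; exact d34))))
    · refine .inl (E (by decide) ?_)
      have h' : g .c1 * g .c2 * (g .c1 * g .c3) * (g .c1 * g .e1) = 1 := h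
      have : g .c1 = (g .c2 * g .c3 * g .e1) := by
        have h2 : g .c2 * g .c3 * g .c1 * g .e1 = 1 := by
          calc g .c2 * g .c3 * g .c1 * g .e1 = g .c1 * g .c1 * (g .c2 * g .c3 * g .c1 * g .e1) := by
                rw [s, one_mul]
            _ = g .c1 * (g .c1 * g .c2) * g .c3 * g .c1 * g .e1 := by group
            _ = g .c1 * (g .c2 * g .c1) * g .c3 * g .c1 * g .e1 := by rw [c12]
            _ = g .c1 * g .c2 * (g .c1 * g .c3) * (g .c1 * g .e1) := by group
            _ = 1 := h'
        calc g .c1 = (g .c3)⁻¹ * (g .c2)⁻¹ * (g .c2 * g .c3 * g .c1 * g .e1) * (g .e1)⁻¹ := by group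
          _ = g .c3 * g .c2 * g .e1 := by
            rw [h2, inv_eq_of_mul_eq_one_right (s .c3), inv_eq_of_mul_eq_one_right (s .c2),
              inv_eq_of_mul_eq_one_right (s .e1), mul_one]
          _ = _ := by rw [← c23]
      rw [this]
      calc g .b1 * (g .c2 * g .c3 * g .e1) = g .b1 * g .c2 * g .c3 * g .e1 := by group
        _ = g .c2 * g .b1 * g .c3 * g .e1 := by rw [d12]
        _ = g .c2 * (g .b1 * g .c3) * g .e1 := by group
        _ = g .c2 * g .c3 * (g .b1 * g .e1) := by rw [d13]; group
        _ = g .c2 * g .c3 * g .e1 * g .b1 := by rw [d14]; group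
  refine hK ⟨⟨fun a b => e.injective (by rw [map_mul, map_mul]; exact Subtype.ext (cox_comm_all (bimonster_collapse (h1 := key)) _ _))⟩⟩

end Monst

end CfsgLib.ScUse
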