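import Cfsg.Prelude.Def_EvenType
import Cfsg.Agent.Lib.InvCentTwoNilp.Setup
import Cfsg.Agent.Lib.Bender.Gen.Wiring

/-!
Owner: helper2. A strongly embedded subgroup gives a maximal strongly `Z`-embedded one (S1794).
-/

set_option autoImplicit false
set_option linter.style.haveILetI false

namespace CfsgLib.ScUse

open Subgroup
open CfsgLib.InvCent (se_conj_mem se_overgroup)

universe u

variable {G : Type u} [Group G] [Finite G]

theorem exists_two_central {M : Subgroup G} (hM : Cfsg.IsStronglyEmbedded M) :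
    ∃ z ∈ M, Cfsg.IsTwoCentralInvolution z := by
  haveI : Fact (Nat.Prime 2) := ⟨Nat.prime_two⟩
  obtain ⟨t, htM, ht⟩ := CfsgLib.Signalizer.exists_involution_of_even hM.2.1
  obtain ⟨S, hS⟩ := (IsPGroup.of_card (p := 2) (n := 1)
    (show Nat.card (zpowers t) = 2 ^ 1 by rw [Nat.card_zpowers, ht, pow_one])).exists_le_sylow
  have htS : t ∈ (S : Subgroup G) := hS (mem_zpowers t)
  haveI : Nontrivial (S : Subgroup G) :=
    ⟨⟨⟨t, htS⟩, 1, fun e => CfsgLib.Signalizer.involution_ne_one ht (congrArg Subtype.val e)⟩⟩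
  haveI : Nontrivial (center (S : Subgroup G)) := S.isPGroup'.center_nontrivial
  obtain ⟨w, hw⟩ := exists_prime_orderOf_dvd_card' (G := center (S : Subgroup G)) 2 (by
    obtain ⟨k, hk0, hk⟩ := (S.isPGroup'.to_subgroup _).nontrivial_iff_card.1 ‹_›
    exact hk ▸ dvd_pow_self 2 hk0.ne')
  have hc : ∀ x ∈ (S : Subgroup G), x * ((w : (S : Subgroup G)) : G) = (w : (S : Subgroup G)) * x :=
    fun x hx => congrArg Subtype.val (mem_center_iff.1 w.2 ⟨x, hx⟩)
  refine ⟨((w : (S : Subgroup G)) : G), CfsgLib.Bender.mem_of_commute_involution hM ht htM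
    (hc t htS).symm, ?_, S, (w : (S : Subgroup G)).2, hc⟩
  rw [Subgroup.orderOf_coe, Subgroup.orderOf_coe, hw]

theorem controlsFusion {M : Subgroup G} (hM : Cfsg.IsStronglyEmbedded M) {T : Subgroup G} (hTM : T ≤ M)
    (hT : IsPGroup 2 T) : Cfsg.ControlsFusion M T := by
  intro A g hA hgA
  by_cases hne : ∃ a ∈ A, a ≠ 1
  · obtain ⟨a, ha, ha1⟩ := hne
    obtain ⟨k, hk⟩ := (hT.to_le (zpowers_le.2 (hA ha))) ⟨a, mem_zpowers a⟩
    have hk' : a ^ 2 ^ k = 1 := congrArg Subtype.val hk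
    obtain ⟨j, -, hj⟩ := (Nat.dvd_prime_pow Nat.prime_two).1 (orderOf_dvd_of_pow_eq_one hk')
    obtain ⟨i, rfl⟩ : ∃ i, j = i + 1 := Nat.exists_eq_succ_of_ne_zero fun h0 => ha1 (by
      rw [h0, pow_zero] at hj; exact orderOf_eq_one_iff.1 hj)
    have hs : orderOf (a ^ 2 ^ i) = 2 := by
      rw [orderOf_pow' a (pow_ne_zero i two_ne_zero), hj, pow_succ,
        Nat.gcd_eq_right (Dvd.intro 2 rfl), Nat.mul_div_cancel_left _ (Nat.two_pow_pos i)]
    have hga : g * a * g⁻¹ ∈ M := hTM (hgA ⟨a, ha, rfl⟩)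
    refine ⟨g, se_conj_mem hM (pow_mem (hTM (hA ha)) _) hs ?_, rfl⟩
    rw [← conj_pow]
    exact pow_mem hga _
  · push Not at hne
    refine ⟨1, one_mem _, Set.image_congr fun a ha => ?_⟩
    rw [hne a ha]
    simp

theorem zEmbedded {M : Subgroup G} (hM : Cfsg.IsStronglyEmbedded M) {z : G} (hz : orderOf z = 2) (hzM : z ∈ M) :
    Cfsg.IsStronglyZEmbedded (conjugatesOf z) M := by
  haveI : Fact (Nat.Prime 2) := ⟨Nat.prime_two⟩
  have hord : ∀ y ∈ conjugatesOf z, orderOf y = 2 := by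
    intro y hy
    obtain ⟨c, rfl⟩ := isConj_iff.1 hy
    rw [CfsgLib.Signalizer.orderOf_conj, hz]
  refine ⟨hM.1, ⟨z, IsConj.refl z, hzM⟩, fun y hy hyM g hg => ?_, ?_, ?_⟩
  · exact CfsgLib.Bender.mem_of_commute_involution hM (hord y hy) hyM (mem_centralizer_singleton_iff.1 hg)
  · obtain ⟨T⟩ := (inferInstance : Nonempty (Sylow 2 M))
    exact ⟨T, controlsFusion hM (map_subtype_le _) (T.isPGroup'.map _)⟩
  · rintro H - ⟨w, hwZ, hwHM⟩ hHM
    obtain ⟨hwH, hwM⟩ := hwHM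
    have hw1 : w ∈ closure (conjugatesOf z ∩ (H : Set G)) := subset_closure ⟨hwZ, hwH⟩
    have hle : ¬ closure (conjugatesOf z ∩ (H : Set G)) ≤ M := by
      intro hle
      refine hHM fun h hh => se_conj_mem hM hwM (hord w hwZ) (hle (subset_closure ⟨?_, ?_⟩))
      · exact IsConj.trans hwZ (isConj_iff.2 ⟨h, rfl⟩)
      · exact mul_mem (mul_mem hh hwH) (inv_mem hh)
    refine ⟨hle, CfsgLib.Bender.spe_of_se ?_⟩
    have hw' : orderOf (⟨w, hw1⟩ : closure (conjugatesOf z ∩ (H : Set G))) = 2 := by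
      rw [orderOf_mk]; exact hord w hwZ
    refine (CfsgLib.Signalizer.stronglyEmbedded_iff_conj _).2 ⟨?_, ?_, ?_⟩
    · intro e
      rw [subgroupOf_eq_top] at e
      exact hle (e.trans inf_le_right)
    · refine even_iff_two_dvd.2 (hw' ▸ orderOf_dvd_natCard _ ?_)
      exact mem_subgroupOf.2 ⟨hw1, hwM⟩
    · intro t ht ht2 g hg
      refine mem_subgroupOf.2 ⟨g.2, se_conj_mem hM (mem_subgroupOf.1 ht).2 ?_ (mem_subgroupOf.1 hg).2⟩
      rw [orderOf_coe]; exact ht2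

/-- The first alternative of S1794 from a strongly embedded subgroup. -/
theorem exists_zEmbedded (H : Subgroup G) (hH : Cfsg.IsStronglyEmbedded H) :
    ∃ (M : Subgroup G) (z : G), IsCoatom M ∧ Cfsg.IsTwoCentralInvolution z ∧
      Cfsg.IsStronglyZEmbedded (conjugatesOf z) M := by
  obtain ⟨M, hM, hle⟩ := (eq_top_or_exists_le_coatom H).resolve_left hH.1
  have hSE := se_overgroup hH hle hM.1
  obtain ⟨z, hzM, hz⟩ := exists_two_central hSE
  exact ⟨M, z, hM, hz, zEmbedded hSE hz.1 hzM⟩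

end CfsgLib.ScUse
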