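import Cfsg.Agent.Lib.OneClassLocal.Main
import Cfsg.Agent.Lib.StrongClosureUse.SEZEmbedded
import Cfsg.Agent.S1854
import Cfsg.Prelude.Def_QuasithinSetup

/-!
Owner: helper2. S1847: normal 2-subgroups of a uniqueness local controlling fusion are strongly closed, and
Goldschmidt's theorem (the type of S1169, a hypothesis here) makes the group a Bender group. Walter's theorem
is not needed: in even characteristic an abelian Sylow 2-subgroup has a strongly embedded normaliser.
-/

set_option autoImplicit false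
set_option linter.style.haveILetI false

namespace CfsgLib.ScUse

open Subgroup

universe u

variable {G : Type u} [Group G] [Finite G]

theorem normal_two_le_sylow {H : Type u} [Group H] (P : Sylow 2 H) {N : Subgroup H} (hn : N.Normal)
    (hp : IsPGroup 2 N) : N ≤ (P : Subgroup H) := by
  haveI := hn
  exact le_sup_left.trans (P.is_maximal' (hp.to_sup_of_normal_left P.isPGroup') le_sup_right).le

theorem normalizer_zpowers_invol {t : G} (ht : orderOf t = 2) :
    normalizer ((zpowers t : Subgroup G) : Set G) = centralizer ({t} : Set G) := by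
  have hts : ∀ y ∈ zpowers t, y = 1 ∨ y = t := by
    intro y hy
    obtain ⟨i, rfl⟩ := mem_zpowers_iff.1 hy
    rw [← zpow_mod_orderOf, ht]
    rcases Int.emod_two_eq_zero_or_one i with h | h <;> simp [h]
  ext n
  rw [mem_centralizer_singleton_iff]
  constructor
  · intro hn
    rcases hts _ ((mem_normalizer_iff.1 hn t).1 (mem_zpowers t)) with h | h
    · exact absurd (conj_eq_one_iff.1 h) (CfsgLib.Signalizer.involution_ne_one ht)
    · exact mul_inv_eq_iff_eq_mul.1 h
  · intro hn
    refine mem_normalizer_iff.2 fun y => ⟨fun hy => ?_, fun hy => ?_⟩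
    · rcases hts y hy with rfl | rfl
      · simp
      · rw [hn, mul_inv_cancel_right]; exact mem_zpowers _
    · rcases hts _ hy with h | h
      · rw [conj_eq_one_iff.1 h]; exact one_mem _
      · rw [show y = n⁻¹ * (n * y * n⁻¹) * n by group, h, mul_assoc, ← hn, inv_mul_cancel_left]
        exact mem_zpowers t

/-- Members of the family from the Alperin–Goldschmidt theorem. -/
theorem mem_agConjFamily {T : Sylow 2 G} {D : Subgroup G} (hne : D ≠ ⊥) (hle : D ≤ (T : Subgroup G))
    (hc : centralizer (D : Set G) ≤ (Cfsg.pPrimePCore 2 ↥(normalizer (D : Set G))).map (normalizer (D : Set G)).subtype)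
    (hp : Cfsg.IsInternalDirectProduct
      ((Cfsg.pPrimeCore 2 ↥(normalizer (D : Set G))).map (normalizer (D : Set G)).subtype) D
      ((Cfsg.pPrimePCore 2 ↥(normalizer (D : Set G))).map (normalizer (D : Set G)).subtype))
    (hi : ¬ 2 ∣ ((T : Subgroup G) ⊓ normalizer (D : Set G)).relIndex (normalizer (D : Set G))) :
    D ∈ Cfsg.agConjFamily (T : Subgroup G) := by
  haveI : Fact (Nat.Prime 2) := ⟨Nat.prime_two⟩
  obtain ⟨-, -, hcomm, -, hsup⟩ := hp
  have hpg : IsPGroup 2 (((T : Subgroup G) ⊓ normalizer (D : Set G)).subgroupOf (normalizer (D : Set G))) :=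
    (T.isPGroup'.to_le inf_le_left).comap_of_injective _ (normalizer (D : Set G)).subtype_injective
  refine ⟨hne, hle, ⟨hpg.toSylow hi, rfl⟩, hc, ?_, hsup⟩
  rw [eq_bot_iff, commutator_le]
  intro a ha b hb
  rw [mem_bot, commutatorElement_eq_one_iff_mul_comm]
  exact hcomm a ha b hb

/-- `M` controls the fusion of every element of `T`. -/
theorem exists_conj_in_local [IsSimpleGroup G] (hG : ¬ IsMulCommutative G) (hK : Cfsg.IsKProper G)
    (T : Sylow 2 G) (M : Subgroup G)
    (h : ∀ D ∈ Cfsg.agConjFamily (T : Subgroup G), normalizer (D : Set G) ≤ M)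
    {x g : G} (hx : x ∈ (T : Subgroup G)) (hx1 : x ≠ 1) (hgx : g * x * g⁻¹ ∈ (T : Subgroup G)) :
    ∃ m ∈ M, g * x * g⁻¹ = m⁻¹ * x * m := by
  haveI : Fact (Nat.Prime 2) := ⟨Nat.prime_two⟩
  obtain ⟨n, D, y, c, hn, hDT, hy, hcD, hpD, hiD, hA0, hAj, hc, hg⟩ :=
    Cfsg.Agent.S1854.result hG hK T {x} (Set.singleton_subset_iff.2 hx) g⁻¹ (by
      rw [Set.image_singleton, Set.singleton_subset_iff, inv_inv]
      exact hgx)
  have hne : ∀ i, D i ≠ ⊥ := by
    intro i e
    obtain ⟨j, hj⟩ := i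
    match j, hj with
    | 0, hj =>
      have h0 : x ∈ D ⟨0, hj⟩ := hA0 hj (Set.mem_singleton x)
      rw [e, mem_bot] at h0
      exact hx1 h0
    | j + 1, hj =>
      have h1 := hAj ⟨j, (Nat.lt_succ_self j).trans hj⟩ hj ⟨x, Set.mem_singleton x, rfl⟩
      rw [e, SetLike.mem_coe, mem_bot] at h1
      refine hx1 ?_
      set w := ((List.ofFn y).take (j + 1)).prod
      have h1' : w⁻¹ * x * w = 1 := h1
      calc x = w * (w⁻¹ * x * w) * w⁻¹ := by group
        _ = 1 := by rw [h1']; group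
  have hyM : ∀ i, y i ∈ M := fun i =>
    h (D i) (mem_agConjFamily (hne i) (hDT i) (hcD i) (hpD i) (hiD i)) (hy i)
  have hprod : (List.ofFn y).prod ∈ M :=
    list_prod_mem fun z hz => by
      obtain ⟨i, rfl⟩ := (List.mem_ofFn' y z).1 hz
      exact hyM i
  refine ⟨_, hprod, ?_⟩
  have hcx : c * x = x * c := ((mem_centralizer_iff.1 hc) x (Set.mem_singleton x)).symm
  have hg' : g = (c * (List.ofFn y).prod)⁻¹ := by rw [← hg, inv_inv]
  rw [hg']
  calc (c * (List.ofFn y).prod)⁻¹ * x * (c * (List.ofFn y).prod)⁻¹⁻¹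
      = (List.ofFn y).prod⁻¹ * (c⁻¹ * (x * c)) * (List.ofFn y).prod := by group
    _ = _ := by rw [← hcx]; group

theorem stronglyClosed_of_normal [IsSimpleGroup G] (hG : ¬ IsMulCommutative G) (hK : Cfsg.IsKProper G)
    (T : Sylow 2 G) (M : Subgroup G) (hTM : (T : Subgroup G) ≤ M)
    (h : ∀ D ∈ Cfsg.agConjFamily (T : Subgroup G), normalizer (D : Set G) ≤ M)
    (U : Subgroup G) (hUM : U ≤ M) (hn : M ≤ normalizer (U : Set G)) (hU : IsPGroup 2 U) :
    Cfsg.IsStronglyClosed U (T : Subgroup G) := by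
  haveI : Fact (Nat.Prime 2) := ⟨Nat.prime_two⟩
  have hUT : U ≤ (T : Subgroup G) := by
    have hp : IsPGroup 2 ↥(U ⊔ (T : Subgroup G)) := hU.to_sup_of_normal_left' T.isPGroup' (hTM.trans hn)
    exact le_sup_left.trans (T.is_maximal' hp le_sup_right).le
  refine ⟨hUT, fun x hx g hg => ?_⟩
  rcases eq_or_ne x 1 with rfl | hx1
  · simpa using one_mem U
  obtain ⟨m, hm, e⟩ := exists_conj_in_local hG hK T M h (hUT hx) hx1 hg
  rw [e]
  have := (mem_normalizer_iff.1 (hn (inv_mem hm)) x).1 hx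
  rwa [inv_inv] at this

theorem centralizer_le_normalizer_of_char (T : Sylow 2 G) (hT : IsMulCommutative (T : Subgroup G))
    {C : Subgroup G} (hTC : (T : Subgroup G) ≤ C) (hchar : Cfsg.IsOfCharacteristicTwo C) :
    C ≤ normalizer ((T : Subgroup G) : Set G) := by
  haveI : Fact (Nat.Prime 2) := ⟨Nat.prime_two⟩
  let T' : Sylow 2 C := T.subtype hTC
  have hO : Cfsg.pCore 2 C ≤ (T' : Subgroup C) :=
    sSup_le fun N hN => normal_two_le_sylow T' hN.1 hN.2
  have hTO : (T' : Subgroup C) ≤ Cfsg.pCore 2 C := by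
    intro a ha
    refine hchar (mem_centralizer_iff.2 fun b hb => Subtype.ext ?_)
    have hb' : (b : G) ∈ (T : Subgroup G) := by simpa [T', Sylow.coe_subtype, mem_subgroupOf] using hO hb
    have ha' : (a : G) ∈ (T : Subgroup G) := by simpa [T', Sylow.coe_subtype, mem_subgroupOf] using ha
    have hcm : (b : G) * (a : G) = (a : G) * (b : G) := congrArg (fun w : (T : Subgroup G) => (w : G)) (hT.is_comm.comm ⟨(b : G), hb'⟩ ⟨(a : G), ha'⟩)
    exact hcm
  have hnorm : (T' : Subgroup C).Normal := by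
    rw [le_antisymm hTO hO]
    exact ⟨fun a ha g => by
      have : (Cfsg.pCore 2 C).map (MulAut.conj g).toMonoidHom ≤ Cfsg.pCore 2 C := by
        unfold Cfsg.pCore
        rw [map_le_iff_le_comap]
        refine sSup_le fun N hN => ?_
        rw [← map_le_iff_le_comap]
        exact le_sSup ⟨hN.1.map _ (MulAut.conj g).surjective, hN.2.map _⟩
      exact this ⟨a, ha, by simp⟩⟩
  intro c hc
  refine mem_normalizer_iff.2 fun a => ?_
  constructor
  · intro ha
    simpa [T', Sylow.coe_subtype, mem_subgroupOf] using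
      hnorm.conj_mem (⟨a, hTC ha⟩ : C) (by simpa [T', Sylow.coe_subtype, mem_subgroupOf] using ha) ⟨c, hc⟩
  · intro ha
    have := hnorm.conj_mem (⟨c * a * c⁻¹, hTC ha⟩ : C) (by simpa [T', Sylow.coe_subtype, mem_subgroupOf] using ha)
      ⟨c, hc⟩⁻¹
    simpa [T', Sylow.coe_subtype, mem_subgroupOf, mul_assoc] using this

/-- In even characteristic an abelian Sylow 2-subgroup gives a strongly embedded subgroup. -/
theorem exists_se_of_abelian [IsSimpleGroup G] (hG : ¬ IsMulCommutative G) (hE : Cfsg.IsOfEvenCharacteristic G)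
    (T : Sylow 2 G) (hT : IsMulCommutative (T : Subgroup G)) (hne : (T : Subgroup G) ≠ ⊥) :
    ∃ H : Subgroup G, Cfsg.IsStronglyEmbedded H := by
  haveI : Fact (Nat.Prime 2) := ⟨Nat.prime_two⟩
  have hNne : normalizer ((T : Subgroup G) : Set G) ≠ ⊤ := by
    intro e
    have hn : (T : Subgroup G).Normal := normalizer_eq_top_iff.1 e
    rcases hn.eq_bot_or_eq_top with h | h
    · exact hne h
    · exact hG ⟨⟨fun a b => congrArg Subtype.val (hT.is_comm.comm ⟨a, h ▸ mem_top a⟩ ⟨b, h ▸ mem_top b⟩)⟩⟩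
  refine ⟨_, (CfsgLib.Signalizer.stronglyEmbedded_iff_conj _).2 ⟨hNne, ?_, ?_⟩⟩
  · obtain ⟨k, hk⟩ := IsPGroup.iff_card.1 T.isPGroup'
    have hk0 : k ≠ 0 := fun e => hne (eq_bot_of_card_eq _ (by rw [hk, e, pow_zero]))
    exact even_iff_two_dvd.2 ((hk ▸ dvd_pow_self 2 hk0).trans (card_dvd_of_le le_normalizer))
  · intro t ht ht2 g hg
    have hmem : ∀ s, s ∈ normalizer ((T : Subgroup G) : Set G) → orderOf s = 2 → s ∈ (T : Subgroup G) := by
      intro s hs hs2
      have hp : IsPGroup 2 (zpowers s) := IsPGroup.of_card (n := 1) (by rw [Nat.card_zpowers, hs2, pow_one])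
      have h' : s ∈ zpowers s ⊓ normalizer (T : Set G) := ⟨mem_zpowers s, hs⟩
      rw [hp.inf_normalizer_sylow T] at h'
      exact h'.2
    have htT := hmem t ht ht2
    have htT' := hmem _ hg (by rw [CfsgLib.Signalizer.orderOf_conj, ht2])
    have hc : ∀ a ∈ (T : Subgroup G), a * t = t * a := fun a ha =>
      congrArg Subtype.val (hT.is_comm.comm ⟨a, ha⟩ ⟨t, htT⟩)
    have hCN : centralizer ({t} : Set G) ≤ normalizer ((T : Subgroup G) : Set G) := by
      refine centralizer_le_normalizer_of_char T hT (fun a ha => mem_centralizer_singleton_iff.2 (hc a ha))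
        (hE _ ⟨zpowers t, IsPGroup.of_card (n := 1) (by rw [Nat.card_zpowers, ht2, pow_one]), ?_, ?_⟩
          ⟨T, fun a ha => mem_centralizer_singleton_iff.2 (hc a ha)⟩)
      · rw [Ne, zpowers_eq_bot]
        exact CfsgLib.Signalizer.involution_ne_one ht2
      · exact (normalizer_zpowers_invol ht2).symm
    obtain ⟨n, hn, hne'⟩ := Sylow.conj_eq_normalizer_conj_of_mem T (_hP := hT) t g⁻¹ htT
      (by rw [inv_inv]; exact htT')
    have hgn : n * g ∈ centralizer ({t} : Set G) := by
      refine mem_centralizer_singleton_iff.2 ?_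
      rw [inv_inv] at hne'
      calc n * g * t = n * (g * t * g⁻¹) * g := by group
        _ = n * (n⁻¹ * t * n) * g := by rw [hne']
        _ = t * (n * g) := by group
    rw [show g = n⁻¹ * (n * g) by group]
    exact mul_mem (inv_mem hn) (hCN hgn)

theorem isBender_of_se [IsSimpleGroup G] {H : Subgroup G} (hH : Cfsg.IsStronglyEmbedded H) :
    Cfsg.IsBenderGroup G := by
  haveI : Fact (Nat.Prime 2) := ⟨Nat.prime_two⟩
  rcases CfsgLib.OneClassLocal.classify hH with ⟨F, iF, iFt, n, hn, hF, he⟩ | h | ⟨F, iF, iFt, n, hn, hF, he⟩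
  · exact .inl ⟨F, iF, iFt, charP_of_card_eq_prime_pow (f := n) hF,
      hF ▸ le_trans (by norm_num) (Nat.pow_le_pow_right (by norm_num) hn), he⟩
  · exact .inr (.inr h)
  · exact .inr (.inl ⟨F, iF, iFt, n, hn, hF, he⟩)

/-- S1847 from the type of S1169. -/
theorem qtke_unique_local
    (hgold : ∀ {G : Type u} [Group G] [Finite G] [IsSimpleGroup G] (S : Sylow 2 G) (A : Subgroup G), A ≠ ⊥ →
      IsMulCommutative A → Cfsg.IsStronglyClosed A (S : Subgroup G) →
        IsMulCommutative (S : Subgroup G) ∨ ∃ H : Subgroup G, Cfsg.IsStronglyEmbedded H)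
    [IsSimpleGroup G] (hG : ¬ IsMulCommutative G) (hQ : Cfsg.IsQTKE G) (T : Sylow 2 G) (M : Subgroup G)
    (hM : Cfsg.maxTwoLocalsContaining (T : Subgroup G) = {M})
    (h : ∀ D ∈ Cfsg.agConjFamily (T : Subgroup G), normalizer (D : Set G) ≤ M) :
    (∀ U : Subgroup G, U ≤ M → M ≤ normalizer (U : Set G) → IsPGroup 2 ↥U →
        Cfsg.IsStronglyClosed U (T : Subgroup G)) ∧ Cfsg.IsBenderGroup G := by
  haveI : Fact (Nat.Prime 2) := ⟨Nat.prime_two⟩
  obtain ⟨⟨⟨R, hR, hRne, rfl⟩, -⟩, hTM⟩ : M ∈ Cfsg.maxTwoLocalsContaining (T : Subgroup G) :=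
    hM.symm ▸ Set.mem_singleton M
  have part1 := stronglyClosed_of_normal hG hQ.2.1 T _ hTM h
  refine ⟨part1, ?_⟩
  set A : Subgroup G := (center R).map R.subtype with hA
  haveI : Nontrivial R := (nontrivial_iff_ne_bot R).2 hRne
  haveI : Nontrivial (center R) := hR.center_nontrivial
  have hAne : A ≠ ⊥ := by
    rw [hA, Ne, map_eq_bot_iff_of_injective _ R.subtype_injective]
    exact (nontrivial_iff_ne_bot _).1 inferInstance
  have hAR : A ≤ R := map_subtype_le _
  have hAc : IsMulCommutative A := by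
    refine ⟨⟨fun a b => Subtype.ext ?_⟩⟩
    obtain ⟨x, hx, hxe⟩ := a.2
    show (a : G) * b = b * a
    have := congrArg Subtype.val (mem_center_iff.1 hx ⟨(b : G), hAR b.2⟩)
    rw [← hxe]
    exact this.symm
  have hAn : normalizer (R : Set G) ≤ normalizer (A : Set G) := by
    have key : ∀ n ∈ normalizer (R : Set G), ∀ a ∈ A, n * a * n⁻¹ ∈ A := by
      rintro n hn a ⟨x, hx, rfl⟩
      refine ⟨⟨n * x * n⁻¹, (mem_normalizer_iff.1 hn _).1 x.2⟩, mem_center_iff.2 fun r => Subtype.ext ?_, rfl⟩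
      have hr : n⁻¹ * r * n ∈ R := by
        have := (mem_normalizer_iff.1 (inv_mem hn) (r : G)).1 r.2
        rwa [inv_inv] at this
      have hc : n⁻¹ * r * n * (x : G) = x * (n⁻¹ * r * n) := congrArg Subtype.val (mem_center_iff.1 hx ⟨_, hr⟩)
      show (r : G) * (n * x * n⁻¹) = n * x * n⁻¹ * r
      calc (r : G) * (n * x * n⁻¹) = n * (n⁻¹ * r * n * x) * n⁻¹ := by group
        _ = n * x * n⁻¹ * r := by rw [hc]; group
    intro n hn
    refine mem_normalizer_iff.2 fun a => ⟨key n hn a, fun ha => ?_⟩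
    simpa [mul_assoc] using key n⁻¹ (inv_mem hn) _ ha
  have hsc := part1 A (hAR.trans le_normalizer) hAn (hR.to_le hAR)
  have hTne : (T : Subgroup G) ≠ ⊥ := fun e => hAne (le_bot_iff.1 (e ▸ hsc.1))
  obtain ⟨H, hH⟩ : ∃ H : Subgroup G, Cfsg.IsStronglyEmbedded H := by
    rcases hgold T A hAne hAc hsc with hT | h
    · exact exists_se_of_abelian hG hQ.2.2 T hT hTne
    · exact h
  exact isBender_of_se hH

end CfsgLib.ScUse
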